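import Groth.Agent.GrModX.QCohTilde
import Groth.Agent.AModX.Res

/-!
# Degree zero fractions on the standard opens of `Proj`
-/

noncomputable section

universe u

set_option backward.isDefEq.respectTransparency false
set_option backward.isDefEq.respectTransparency.types false
set_option linter.style.haveILetI false

open CategoryTheory AlgebraicGeometry TopologicalSpace HomogeneousLocalization Opposite

namespace Groth.Agent.ProjGamma

variable {R A : Type u} [CommRing R] [CommRing A] [Algebra R A] {𝒜 : ℕ → Submodule R A} [GradedAlgebra 𝒜]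

/-- The function `a / f ^ k` on `D₊(f)`. -/
def frac {f : A} (hf : f ∈ 𝒜 1) (k : ℕ) {a : A} (ha : a ∈ 𝒜 k) : Γ(Proj 𝒜, Proj.basicOpen 𝒜 f) :=
  Proj.awayToSection 𝒜 f (Away.mk 𝒜 hf k a (by rwa [smul_eq_mul, mul_one]))

theorem oval_frac {f : A} (hf : f ∈ 𝒜 1) (k : ℕ) {a : A} (ha : a ∈ 𝒜 k) (y : Proj.basicOpen 𝒜 f) :
    (GrModX.oval 𝒜 (frac hf k ha) y).val =
      Localization.mk a ⟨f ^ k, GrModX.pow_notMem y.1.isPrime y.2 k⟩ :=
  rfl

theorem sect_ext {U : (Proj 𝒜).Opens} {c d : Γ(Proj 𝒜, U)}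
    (h : ∀ y : U, (GrModX.oval 𝒜 c y).val = (GrModX.oval 𝒜 d y).val) : c = d :=
  Subtype.ext (funext fun y => val_injective _ (h y))

theorem oval_mul {U : (Proj 𝒜).Opens} (c d : Γ(Proj 𝒜, U)) (y : U) :
    (GrModX.oval 𝒜 (c * d) y).val = (GrModX.oval 𝒜 c y).val * (GrModX.oval 𝒜 d y).val :=
  val_mul _ _

theorem oval_resR {U V : (Proj 𝒜).Opens} (h : V ≤ U) (c : Γ(Proj 𝒜, U)) (y : V) :
    GrModX.oval 𝒜 (AModX.resR h c) y = GrModX.oval 𝒜 c ⟨y.1, h y.2⟩ := rfl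

variable {f : A} (hf : f ∈ 𝒜 1)

theorem frac_mul {k l : ℕ} {a b : A} (ha : a ∈ 𝒜 k) (hb : b ∈ 𝒜 l) :
    frac hf k ha * frac hf l hb = frac hf (k + l) (SetLike.mul_mem_graded ha hb) :=
  sect_ext fun y => by
    rw [oval_mul, oval_frac, oval_frac, oval_frac, Localization.mk_mul]
    congr 1
    exact Subtype.ext (pow_add f k l).symm

theorem frac_congr {k k' : ℕ} {a a' : A} (ha : a ∈ 𝒜 k) (ha' : a' ∈ 𝒜 k') (hk : k = k') (h : a = a') :
    frac hf k ha = frac hf k' ha' := by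
  subst hk h
  rfl

theorem frac_one : frac hf 0 (SetLike.GradedOne.one_mem (A := 𝒜)) = 1 :=
  sect_ext fun y => by
    rw [oval_frac]
    refine Eq.trans ?_ (show (GrModX.oval 𝒜 1 y).val = 1 from val_one).symm
    rw [← Localization.mk_one]
    congr 1
    exact Subtype.ext (pow_zero f)

theorem frac_self : frac hf 1 hf = 1 :=
  sect_ext fun y => by
    rw [oval_frac]
    refine Eq.trans ?_ (show (GrModX.oval 𝒜 1 y).val = 1 from val_one).symm
    rw [← Localization.mk_self ⟨f, y.2⟩]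
    congr 1
    exact Subtype.ext (pow_one f)

theorem frac_add {k : ℕ} {a b : A} (ha : a ∈ 𝒜 k) (hb : b ∈ 𝒜 k) :
    frac hf k (add_mem ha hb) = frac hf k ha + frac hf k hb :=
  sect_ext fun y => by
    show _ = (GrModX.oval 𝒜 (frac hf k ha) y + GrModX.oval 𝒜 (frac hf k hb) y).val
    rw [val_add, oval_frac, oval_frac, oval_frac, Localization.add_mk_self]

theorem frac_zero (k : ℕ) : frac hf k (zero_mem (𝒜 k)) = 0 :=
  sect_ext fun y => by
    rw [oval_frac]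
    refine Eq.trans ?_ (show (GrModX.oval 𝒜 0 y).val = 0 from val_zero).symm
    exact Localization.mk_zero _

/-- Change of the denominator on the overlap. -/
theorem res_frac {g : A} (hg : g ∈ 𝒜 1) {k : ℕ} {a : A} (ha : a ∈ 𝒜 k) {W : (Proj 𝒜).Opens}
    (hWf : W ≤ Proj.basicOpen 𝒜 f) (hWg : W ≤ Proj.basicOpen 𝒜 g) :
    AModX.resR hWg (frac hg k ha) = AModX.resR hWg (frac hg 1 hf) ^ k * AModX.resR hWf (frac hf k ha) :=
  sect_ext fun y => by
    rw [oval_mul, GrModX.oval_pow, val_pow, oval_resR, oval_resR, oval_resR, oval_frac, oval_frac, oval_frac,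
      Localization.mk_pow, Localization.mk_mul, Localization.mk_eq_mk_iff, Localization.r_iff_exists]
    refine ⟨1, ?_⟩
    simp only [OneMemClass.coe_one, one_mul, Submonoid.coe_mul, SubmonoidClass.coe_pow, pow_one]
    ring

theorem isUnit_germ_frac {y : Proj 𝒜} (hy : y ∈ Proj.basicOpen 𝒜 f) {k : ℕ} {a : A} (ha : a ∈ 𝒜 k)
    (hay : a ∉ y.asHomogeneousIdeal) :
    IsUnit ((Proj 𝒜).presheaf.germ _ y hy (frac hf k ha)) := by
  refine ((Proj 𝒜).mem_basicOpen _ y hy).1 ?_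
  rw [frac, GrModX.basicOpen_awayToSection]
  exact fun h => (y.isPrime.mem_or_mem h).elim hy hay

theorem basicOpen_frac {k : ℕ} {a : A} (ha : a ∈ 𝒜 k) :
    (Proj 𝒜).basicOpen (frac hf k ha) = Proj.basicOpen 𝒜 (f * a) :=
  GrModX.basicOpen_awayToSection 𝒜 hf k _

theorem exists_frac (c : Γ(Proj 𝒜, Proj.basicOpen 𝒜 f)) :
    ∃ (k : ℕ) (a : A) (ha : a ∈ 𝒜 k), c = frac hf k ha := by
  obtain ⟨q, rfl⟩ := (Proj.basicOpenIsoAway 𝒜 f hf Nat.one_pos).commRingCatIsoToRingEquiv.surjective c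
  obtain ⟨k, a, ha, rfl⟩ := Away.mk_surjective 𝒜 hf q
  exact ⟨k, a, by rwa [smul_eq_mul, mul_one] at ha, rfl⟩

/-- A fraction that takes the value of `c` at a point. -/
theorem germ_mul_frac {U : (Proj 𝒜).Opens} (c : Γ(Proj 𝒜, U)) {y : Proj 𝒜} (hyU : y ∈ U)
    (hy : y ∈ Proj.basicOpen 𝒜 f) {k : ℕ} {r t : A} (hr : r ∈ 𝒜 k) (ht : t ∈ 𝒜 k)
    (hty : t ∉ y.asHomogeneousIdeal) (hc : (GrModX.oval 𝒜 c ⟨y, hyU⟩).val = Localization.mk r ⟨t, hty⟩) :
    (Proj 𝒜).presheaf.germ _ y hy (frac hf k ht) * (Proj 𝒜).presheaf.germ U y hyU c =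
      (Proj 𝒜).presheaf.germ _ y hy (frac hf k hr) := by
  refine (ConcreteCategory.bijective_of_isIso (Proj.stalkIso' 𝒜 y).toCommRingCatIso.hom).1 ?_
  show Proj.stalkIso' 𝒜 y (_ * _) = Proj.stalkIso' 𝒜 y _
  rw [map_mul]
  erw [Proj.stalkIso'_germ, Proj.stalkIso'_germ, Proj.stalkIso'_germ]
  refine val_injective _ ((val_mul _ _).trans ?_)
  change (GrModX.oval 𝒜 (frac hf k ht) ⟨y, hy⟩).val * (GrModX.oval 𝒜 c ⟨y, hyU⟩).val =
    (GrModX.oval 𝒜 (frac hf k hr) ⟨y, hy⟩).val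
  rw [oval_frac, hc, oval_frac, Localization.mk_mul, Localization.mk_eq_mk_iff, Localization.r_iff_exists]
  refine ⟨1, ?_⟩
  simp only [OneMemClass.coe_one, one_mul, Submonoid.coe_mul]
  ring

end Groth.Agent.ProjGamma
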