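import Groth.Agent.ProjGamma.ToF
import Groth.Agent.QCoh.Stalk

/-!
# Quasi-coherent sheaves on `Proj` generated in degree one come from graded modules
-/

noncomputable section

universe u

set_option backward.isDefEq.respectTransparency false
set_option backward.isDefEq.respectTransparency.types false
set_option linter.style.haveILetI false
set_option synthInstance.maxHeartbeats 100000

open CategoryTheory AlgebraicGeometry TopologicalSpace DirectSum

namespace Groth.Agent.ProjGamma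

variable {R A : Type u} [CommRing R] [CommRing A] [Algebra R A] {𝒜 : ℕ → Submodule R A} [GradedAlgebra 𝒜]
variable {ι : Type u} [Finite ι] {f : ι → A} {hf : ∀ i, f i ∈ 𝒜 1} {F : (Proj 𝒜).Modules}

/-- Every section over a standard open is a fraction of a compatible family. -/
theorem exists_mem_grade (hF : Coh.IsQCoh F) (i : ι) (b : Γ(F, D 𝒜 f i)) :
    ∃ (n : ℕ) (m : gamma 𝒜 hf F), m ∈ grade 𝒜 hf F n ∧ co (m : GStar 𝒜 hf F) n i = b := by
  classical
  letI := Fintype.ofFinite ι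
  let c : ∀ l, Γ(Proj 𝒜, D 𝒜 f l) := fun l => frac (hf l) 1 (hf i)
  have hO : ∀ l, (Proj 𝒜).basicOpen (c l) ≤ D 𝒜 f i := fun l => by
    rw [basicOpen_frac]
    exact fun y hy h => hy (y.asHomogeneousIdeal.toIdeal.mul_mem_left _ h)
  have hA : ∀ l, IsAffineOpen (D 𝒜 f l) := fun l => Proj.isAffineOpen_basicOpen 𝒜 (f l) (hf l) Nat.one_pos
  choose N₁ t₁ ht₁ using fun l => QCoh.exists_pow_smul_eq_map hF (hA l) (c l) (AModX.res F (hO l) b)
  let N := Finset.univ.sup N₁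
  obtain ⟨t, ht⟩ : ∃ t : ∀ l, Γ(F, D 𝒜 f l), ∀ l, AModX.res F ((Proj 𝒜).basicOpen_le (c l)) (t l) =
      AModX.resR ((Proj 𝒜).basicOpen_le (c l)) (c l) ^ N • AModX.res F (hO l) b := by
    refine ⟨fun l => c l ^ (N - N₁ l) • t₁ l, fun l => ?_⟩
    show AModX.res F _ (c l ^ (N - N₁ l) • t₁ l) = _
    rw [AModX.res_smul, map_pow]
    refine (congrArg (_ • ·) (ht₁ l)).trans ?_
    rw [← mul_smul]
    congr 1
    exact (pow_add _ _ _).symm.trans (by rw [Nat.sub_add_cancel (Finset.le_sup (Finset.mem_univ l))])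
  have hK : ∀ l h, ∃ K : ℕ, AModX.resR (inf_le_right : D 𝒜 f l ⊓ D 𝒜 f h ≤ D 𝒜 f h) (c h) ^ K •
      (AModX.resR (inf_le_right : D 𝒜 f l ⊓ D 𝒜 f h ≤ D 𝒜 f h) (frac (hf h) 1 (hf l)) ^ N •
          AModX.res F (inf_le_left : D 𝒜 f l ⊓ D 𝒜 f h ≤ D 𝒜 f l) (t l) -
        AModX.res F (inf_le_right : D 𝒜 f l ⊓ D 𝒜 f h ≤ D 𝒜 f h) (t h)) = 0 := by
    intro l h
    have hAW : IsAffineOpen (D 𝒜 f l ⊓ D 𝒜 f h) := by
      rw [← Proj.basicOpen_mul]
      exact Proj.isAffineOpen_basicOpen 𝒜 _ (SetLike.mul_mem_graded (hf l) (hf h)) (by norm_num)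
    let cW := AModX.resR (inf_le_right : D 𝒜 f l ⊓ D 𝒜 f h ≤ D 𝒜 f h) (c h)
    refine QCoh.exists_pow_smul_eq_zero hF hAW cW _ ?_
    let B := (Proj 𝒜).basicOpen cW
    have hB : B ≤ D 𝒜 f l ⊓ D 𝒜 f h := (Proj 𝒜).basicOpen_le _
    have hBh : B ≤ (Proj 𝒜).basicOpen (c h) := by
      show (Proj 𝒜).basicOpen (((Proj 𝒜).presheaf.map (homOfLE _).op).hom (c h)) ≤ _
      rw [Scheme.basicOpen_res]
      exact inf_le_right
    have hBl : B ≤ (Proj 𝒜).basicOpen (c l) := fun y hy => by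
      have h1 := hBh hy
      rw [basicOpen_frac] at h1 ⊢
      exact fun h' => (y.isPrime.mem_or_mem h').elim (hB hy).1 fun h'' => h1
        (y.asHomogeneousIdeal.toIdeal.mul_mem_left _ h'')
    have el := congrArg (AModX.res F hBl) (ht l)
    have eh := congrArg (AModX.res F hBh) (ht h)
    simp only [AModX.res_smul, AModX.res_res, map_pow, AModX.resR_resR] at el eh
    have hcc := congrArg (AModX.resR hB) (res_frac (hf l) (hf h) (k := 1) (hf i)
      (inf_le_left : D 𝒜 f l ⊓ D 𝒜 f h ≤ D 𝒜 f l) inf_le_right)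
    simp only [map_mul, map_pow, pow_one, AModX.resR_resR] at hcc
    show AModX.res F hB _ = 0
    rw [map_sub, AModX.res_smul, AModX.res_res, AModX.res_res, el, eh, map_pow, AModX.resR_resR, ← mul_smul,
      ← mul_pow, sub_eq_zero]
    exact congrArg (fun r => r ^ N • _) hcc.symm
  choose K₁ hK₁ using hK
  let K := Finset.univ.sup fun p : ι × ι => K₁ p.1 p.2
  have hcompat : Compat hf (N + K) fun l => c l ^ K • t l := by
    intro l h
    rw [AModX.res_smul, AModX.res_smul, map_pow, map_pow]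
    obtain ⟨r, hr⟩ := Nat.exists_eq_add_of_le'
      (Finset.le_sup (f := fun p : ι × ι => K₁ p.1 p.2) (Finset.mem_univ (l, h)))
    have h0 : AModX.resR (inf_le_right : D 𝒜 f l ⊓ D 𝒜 f h ≤ D 𝒜 f h) (c h) ^ K •
        (AModX.resR (inf_le_right : D 𝒜 f l ⊓ D 𝒜 f h ≤ D 𝒜 f h) (frac (hf h) 1 (hf l)) ^ N •
            AModX.res F (inf_le_left : D 𝒜 f l ⊓ D 𝒜 f h ≤ D 𝒜 f l) (t l) -
          AModX.res F (inf_le_right : D 𝒜 f l ⊓ D 𝒜 f h ≤ D 𝒜 f h) (t h)) = 0 := by
      rw [show K = r + K₁ l h from hr, pow_add, mul_smul, hK₁, smul_zero]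
    rw [smul_sub, sub_eq_zero] at h0
    rw [← h0, ← mul_smul, ← mul_smul]
    congr 1
    have hcc := res_frac (hf l) (hf h) (k := 1) (hf i) (inf_le_left : D 𝒜 f l ⊓ D 𝒜 f h ≤ D 𝒜 f l) inf_le_right
    rw [pow_one] at hcc
    simp only [c]
    rw [hcc]
    ring
  refine ⟨N + K, mk _ hcompat, (mk _ hcompat).2, ?_⟩
  rw [co_mk]
  have hone : c i = 1 := frac_self (hf i)
  have hB : D 𝒜 f i ≤ (Proj 𝒜).basicOpen (c i) := by rw [basicOpen_frac]; exact fun y hy h => (y.isPrime.mem_or_mem h).elim hy hy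
  have h1 := congrArg (AModX.res F hB) (ht i)
  rw [AModX.res_res, AModX.res_smul, AModX.res_res, AModX.res_self, AModX.res_self, map_pow, AModX.resR_resR,
    AModX.resR_self, hone, one_pow, one_smul] at h1
  rw [hone, one_pow, one_smul, h1]

/-- The comparison for the full module. -/
theorem isIso_toF_gamma (hF : Coh.IsQCoh F) (hcov : ∀ y : Proj 𝒜, ∃ i, y ∈ D 𝒜 f i) :
    IsIso (toF (𝒩 := grade 𝒜 hf F) (LinearMap.id : gamma 𝒜 hf F →ₗ[A] gamma 𝒜 hf F) hcov) := by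
  refine isIso_toF _ hcov hF (fun n m hm => hm) (fun _ _ h => h) fun i => eq_top_iff.2 fun b _ => ?_
  obtain ⟨n, m, hm, hb⟩ := exists_mem_grade hF i b
  exact Submodule.subset_span ⟨n, m, hm, hb.symm⟩

variable (hf) in
theorem nonempty_iso_gamma (hF : Coh.IsQCoh F) (hcov : ∀ y : Proj 𝒜, ∃ i, y ∈ D 𝒜 f i) :
    Nonempty (GrMod.tilde 𝒜 (grade 𝒜 hf F) 0 ≅ F) :=
  haveI := isIso_toF_gamma (hf := hf) hF hcov
  ⟨asIso (toF (𝒩 := grade 𝒜 hf F) (LinearMap.id : gamma 𝒜 hf F →ₗ[A] gamma 𝒜 hf F) hcov)⟩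

theorem exists_finite_submodule (hF : Coh.IsQCoh F) (hft : CohB1.IsFT F)
    (hcov : ∀ y : Proj 𝒜, ∃ i, y ∈ D 𝒜 f i) :
    ∃ (P : Submodule A (gamma 𝒜 hf F)) (𝒬 : ℕ → Submodule R P) (_ : DirectSum.Decomposition 𝒬)
      (_ : SetLike.GradedSMul 𝒜 𝒬), Module.Finite A P ∧ Nonempty (GrMod.tilde 𝒜 𝒬 0 ≅ F) := by
  classical
  letI := Fintype.ofFinite ι
  have hgen : ∀ i, ∃ G : Finset Γ(F, D 𝒜 f i), Submodule.span Γ(Proj 𝒜, D 𝒜 f i) (G : Set Γ(F, D 𝒜 f i)) = ⊤ :=
    fun i => (QCoh.finite_of_isFT hF hft (Proj.isAffineOpen_basicOpen 𝒜 (f i) (hf i) Nat.one_pos)).fg_top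
  choose G hG using hgen
  choose n m hm hco using fun p : Σ i : ι, G i => exists_mem_grade (hf := hf) hF p.1 p.2.1
  let P : Submodule A (gamma 𝒜 hf F) := Submodule.span A (Set.range m)
  let 𝒬 : ℕ → Submodule R P := fun k => (grade 𝒜 hf F k).comap (P.subtype.restrictScalars R)
  haveI hgr : SetLike.GradedSMul 𝒜 𝒬 := ⟨fun {k l a w} ha hw => by
    show a • (w : gamma 𝒜 hf F) ∈ grade 𝒜 hf F (k + l)
    exact SetLike.GradedSMul.smul_mem ha (show (w : gamma 𝒜 hf F) ∈ grade 𝒜 hf F l from hw)⟩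
  let incl : (k : ℕ) → 𝒬 k →+ grade 𝒜 hf F k := fun k =>
    AddMonoidHom.mk' (fun w => ⟨(w : P).1, w.2⟩) fun _ _ => rfl
  have hcomm : ∀ z, ((DirectSum.coeAddMonoidHom 𝒬 z : P) : gamma 𝒜 hf F) =
      DirectSum.coeAddMonoidHom (grade 𝒜 hf F) (DirectSum.map incl z) := fun z => by
    induction z using DirectSum.induction_on with
    | zero => simp only [map_zero, ZeroMemClass.coe_zero]
    | of k w => rw [DirectSum.map_of, DirectSum.coeAddMonoidHom_of, DirectSum.coeAddMonoidHom_of]; rfl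
    | add a b ha hb => rw [map_add, map_add, map_add, Submodule.coe_add, ha, hb]
  have hint : DirectSum.IsInternal 𝒬 := by
    refine ⟨fun x y hxy => ?_, fun w => ?_⟩
    · refine (DirectSum.map_injective incl).2 (fun k a b h => Subtype.ext (Subtype.ext (congrArg (fun z : grade 𝒜 hf F k => z.1) h)))
        ((DirectSum.Decomposition.isInternal (grade 𝒜 hf F)).1 ?_)
      rw [← hcomm, ← hcomm]
      exact congrArg Subtype.val hxy
    · obtain ⟨w, hw⟩ := w
      induction hw using Submodule.span_induction with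
      | mem x hx =>
        obtain ⟨p, rfl⟩ := hx
        exact ⟨DirectSum.of _ (n p) ⟨⟨m p, Submodule.subset_span ⟨p, rfl⟩⟩, hm p⟩,
          DirectSum.coeAddMonoidHom_of 𝒬 _ _⟩
      | zero => exact ⟨0, map_zero _⟩
      | add a b _ _ ha hb =>
        obtain ⟨za, hza⟩ := ha
        obtain ⟨zb, hzb⟩ := hb
        exact ⟨za + zb, by rw [map_add, hza, hzb]; rfl⟩
      | smul a x hx hz =>
        obtain ⟨z, hz⟩ := hz
        have key : ∀ z : ⨁ k, 𝒬 k, ∃ z', DirectSum.coeAddMonoidHom 𝒬 z' = a • DirectSum.coeAddMonoidHom 𝒬 z := by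
          intro z
          induction z using DirectSum.induction_on with
          | zero => exact ⟨0, by rw [map_zero, smul_zero]⟩
          | of k w =>
            refine ⟨∑ d ∈ (decompose 𝒜 a).support, DirectSum.of _ (d + k)
              ⟨(decompose 𝒜 a d : A) • (w : P), SetLike.GradedSMul.smul_mem (SetLike.coe_mem (decompose 𝒜 a d)) w.2⟩, ?_⟩
            rw [map_sum, DirectSum.coeAddMonoidHom_of]
            simp_rw [DirectSum.coeAddMonoidHom_of]
            rw [← Finset.sum_smul, DirectSum.sum_support_decompose]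
          | add u v hu hv =>
            obtain ⟨u', hu⟩ := hu
            obtain ⟨v', hv⟩ := hv
            exact ⟨u' + v', by rw [map_add, map_add, smul_add, hu, hv]⟩
        obtain ⟨z', hz'⟩ := key z
        exact ⟨z', by rw [hz', hz]; rfl⟩
  letI := hint.chooseDecomposition
  haveI : IsIso (toF (𝒩 := 𝒬) P.subtype hcov) := by
    refine isIso_toF _ hcov hF (fun k w hw => hw) Subtype.val_injective fun i => eq_top_iff.2 ?_
    rw [← hG i, Submodule.span_le]
    intro b hb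
    exact Submodule.subset_span ⟨n ⟨i, b, hb⟩, ⟨m ⟨i, b, hb⟩, Submodule.subset_span ⟨_, rfl⟩⟩, hm _, (hco ⟨i, b, hb⟩).symm⟩
  exact ⟨P, 𝒬, inferInstance, inferInstance, Module.Finite.span_of_finite A (Set.finite_range m),
    ⟨asIso (toF (𝒩 := 𝒬) P.subtype hcov)⟩⟩

end Groth.Agent.ProjGamma
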