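import Groth.Agent.ProjGamma.Frac
import Mathlib.Algebra.Polynomial.Module.Basic

/-!
# The graded module of compatible families of sections

For homogeneous elements `f i` of degree one, the degree `n` part consists of families of sections
`a i` over `D₊(f i)` with `a j = (f i / f j) ^ n • a i` on the overlaps.
-/

noncomputable section

universe u

set_option backward.isDefEq.respectTransparency false
set_option backward.isDefEq.respectTransparency.types false
set_option linter.style.haveILetI false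

open CategoryTheory AlgebraicGeometry TopologicalSpace DirectSum Polynomial

namespace Groth.Agent.ProjGamma

variable {R A : Type u} [CommRing R] [CommRing A] [Algebra R A] (𝒜 : ℕ → Submodule R A) [GradedAlgebra 𝒜]
variable {ι : Type u} {f : ι → A}

/-- The open set of index `i`. -/
abbrev D (f : ι → A) (i : ι) : (Proj 𝒜).Opens := Proj.basicOpen 𝒜 (f i)

/-- A homogeneous element as a monomial in the fractions. -/
def monoHom {a : A} (ha : a ∈ 𝒜 1) (k : ℕ) : 𝒜 k →+ Γ(Proj 𝒜, Proj.basicOpen 𝒜 a)[X] :=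
  AddMonoidHom.mk' (fun x => monomial k (frac ha k x.2)) fun x y => by
    rw [← map_add, ← frac_add ha x.2 y.2]

theorem monoHom_apply {a : A} (ha : a ∈ 𝒜 1) (k : ℕ) (x : 𝒜 k) :
    monoHom 𝒜 ha k x = monomial k (frac ha k x.2) := rfl

/-- The elements of `A` as polynomials in the fractions. -/
def toPoly {a : A} (ha : a ∈ 𝒜 1) : A →+* Γ(Proj 𝒜, Proj.basicOpen 𝒜 a)[X] :=
  (DirectSum.toSemiring (monoHom 𝒜 ha)
    (by
      rw [monoHom_apply, ← monomial_zero_one]
      exact congrArg _ (frac_one ha))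
    (fun {k l} x y => by
      rw [monoHom_apply, monoHom_apply, monoHom_apply, monomial_mul_monomial, frac_mul ha x.2 y.2])).comp (DirectSum.decomposeRingEquiv 𝒜).toRingHom

theorem toPoly_of_mem {a : A} (ha : a ∈ 𝒜 1) {k : ℕ} {x : A} (hx : x ∈ 𝒜 k) :
    toPoly 𝒜 ha x = monomial k (frac ha k hx) := by
  rw [toPoly, RingHom.comp_apply, RingEquiv.toRingHom_eq_coe, RingHom.coe_coe, show DirectSum.decomposeRingEquiv 𝒜 x = DirectSum.of (fun i => 𝒜 i) k ⟨x, hx⟩ from
    decompose_of_mem 𝒜 hx, DirectSum.toSemiring_of, monoHom_apply]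

/-- Families of polynomials in the sections. -/
@[nolint unusedArguments]
def GStar (_hf : ∀ i, f i ∈ 𝒜 1) (F : (Proj 𝒜).Modules) : Type u :=
  ∀ i, PolynomialModule Γ(Proj 𝒜, D 𝒜 f i) Γ(F, D 𝒜 f i)

variable (hf : ∀ i, f i ∈ 𝒜 1) (F : (Proj 𝒜).Modules)

instance : AddCommGroup (GStar 𝒜 hf F) :=
  inferInstanceAs (AddCommGroup (∀ i, PolynomialModule Γ(Proj 𝒜, D 𝒜 f i) Γ(F, D 𝒜 f i)))

instance instModuleA : Module A (GStar 𝒜 hf F) :=
  letI (i : ι) : Module A (PolynomialModule Γ(Proj 𝒜, D 𝒜 f i) Γ(F, D 𝒜 f i)) :=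
    Module.compHom _ (toPoly 𝒜 (hf i))
  inferInstanceAs (Module A (∀ i, PolynomialModule Γ(Proj 𝒜, D 𝒜 f i) Γ(F, D 𝒜 f i)))

instance instModuleR : Module R (GStar 𝒜 hf F) := Module.compHom _ (algebraMap R A)

instance : IsScalarTower R A (GStar 𝒜 hf F) := IsScalarTower.of_algebraMap_smul fun _ _ => rfl

variable {𝒜 hf F}

/-- The component of degree `n` at `i`. -/
def co (m : GStar 𝒜 hf F) (n : ℕ) (i : ι) : Γ(F, D 𝒜 f i) := (m i).coeff n

theorem gstar_ext {m m' : GStar 𝒜 hf F} (h : ∀ n i, co m n i = co m' n i) : m = m' :=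
  funext fun i => PolynomialModule.ext (Finsupp.ext fun n => h n i)

theorem co_add (m m' : GStar 𝒜 hf F) (n : ℕ) (i : ι) : co (m + m') n i = co m n i + co m' n i := rfl

theorem co_zero (n : ℕ) (i : ι) : co (0 : GStar 𝒜 hf F) n i = 0 := rfl

theorem co_sum {β : Type*} (s : Finset β) (m : β → GStar 𝒜 hf F) (n : ℕ) (i : ι) :
    co (∑ b ∈ s, m b) n i = ∑ b ∈ s, co (m b) n i :=
  map_sum (AddMonoidHom.mk' (fun m : GStar 𝒜 hf F => co m n i) fun _ _ => rfl) m s

theorem co_smul {k : ℕ} {a : A} (ha : a ∈ 𝒜 k) (m : GStar 𝒜 hf F) (n : ℕ) (i : ι) :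
    co (a • m) n i = if k ≤ n then frac (hf i) k ha • co m (n - k) i else 0 := by
  show (toPoly 𝒜 (hf i) a • m i).coeff n = _
  rw [toPoly_of_mem 𝒜 (hf i) ha, PolynomialModule.monomial_smul_apply]
  rfl

/-- The family concentrated in degree `n`. -/
def one' (n : ℕ) (a : ∀ i, Γ(F, D 𝒜 f i)) : GStar 𝒜 hf F :=
  fun i => PolynomialModule.single _ n (a i)

theorem co_one' (n : ℕ) (a : ∀ i, Γ(F, D 𝒜 f i)) (k : ℕ) (i : ι) :
    co (one' (hf := hf) n a) k i = if n = k then a i else 0 :=
  Finsupp.single_apply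

theorem co_one'_same (n : ℕ) (a : ∀ i, Γ(F, D 𝒜 f i)) (i : ι) : co (one' (hf := hf) n a) n i = a i := by
  rw [co_one', if_pos rfl]

/-- The compatibility condition in degree `n`. -/
def Compat (hf : ∀ i, f i ∈ 𝒜 1) (n : ℕ) (a : ∀ i, Γ(F, D 𝒜 f i)) : Prop :=
  ∀ i j, AModX.res F (inf_le_right : D 𝒜 f i ⊓ D 𝒜 f j ≤ D 𝒜 f j) (a j) =
    AModX.resR (inf_le_right : D 𝒜 f i ⊓ D 𝒜 f j ≤ D 𝒜 f j) (frac (hf j) 1 (hf i)) ^ n •
      AModX.res F (inf_le_left : D 𝒜 f i ⊓ D 𝒜 f j ≤ D 𝒜 f i) (a i)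

theorem compat_zero (n : ℕ) : Compat hf n (fun i => (0 : Γ(F, D 𝒜 f i))) := fun i j => by
  rw [map_zero, map_zero, smul_zero]

theorem Compat.add {n : ℕ} {a b : ∀ i, Γ(F, D 𝒜 f i)} (ha : Compat hf n a) (hb : Compat hf n b) :
    Compat hf n (fun i => a i + b i) := fun i j => by
  rw [map_add, map_add, ha i j, hb i j, smul_add]

theorem Compat.smul {n k : ℕ} {x : A} (hx : x ∈ 𝒜 k) {a : ∀ i, Γ(F, D 𝒜 f i)} (ha : Compat hf n a) :
    Compat hf (k + n) (fun i => frac (hf i) k hx • a i) := fun i j => by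
  rw [AModX.res_smul, AModX.res_smul, ha i j, res_frac (hf i) (hf j) hx inf_le_left inf_le_right, ← mul_smul,
    ← mul_smul]
  congr 1
  ring

variable (𝒜 hf F)

/-- The graded module of compatible families. -/
def gamma : Submodule A (GStar 𝒜 hf F) where
  carrier := {m | ∀ n, Compat hf n (co m n)}
  zero_mem' n := compat_zero n
  add_mem' h h' n := (h n).add (h' n)
  smul_mem' c m hm := by
    classical
    rw [← DirectSum.sum_support_decompose 𝒜 c, Finset.sum_smul]
    refine Finset.sum_induction _ (fun m : GStar 𝒜 hf F => ∀ n, Compat hf n (co m n))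
      (fun a b ha hb n => (ha n).add (hb n)) (fun n => compat_zero n) fun k _ n => ?_
    have hk : (decompose 𝒜 c k : A) ∈ 𝒜 k := SetLike.coe_mem _
    intro i j
    rw [co_smul hk, co_smul hk]
    split_ifs with hkn
    · have := ((hm (n - k)).smul hk) i j
      rwa [Nat.add_sub_cancel' hkn] at this
    · exact compat_zero n i j

/-- The degree `n` part. -/
def grade (n : ℕ) : Submodule R (gamma 𝒜 hf F) where
  carrier := {m | ∀ k, k ≠ n → ∀ i, co (m : GStar 𝒜 hf F) k i = 0}
  zero_mem' k _ i := rfl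
  add_mem' h h' k hk i := by
    show co ((_ : GStar 𝒜 hf F) + _) k i = 0
    rw [co_add, h k hk i, h' k hk i, add_zero]
  smul_mem' c m hm k hk i := by
    show co ((algebraMap R A c) • (m : GStar 𝒜 hf F)) k i = 0
    rw [co_smul (SetLike.algebraMap_mem_graded (A := 𝒜) c), if_pos (Nat.zero_le k), Nat.sub_zero, hm k hk i,
      smul_zero]

variable {𝒜 hf F}

/-- An element of degree `n`. -/
def mk {n : ℕ} (a : ∀ i, Γ(F, D 𝒜 f i)) (ha : Compat hf n a) : grade 𝒜 hf F n :=
  ⟨⟨one' n a, fun k => by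
    by_cases hk : n = k
    · subst hk
      rw [show co (one' (hf := hf) n a) n = a from funext fun i => co_one'_same n a i]
      exact ha
    · rw [show co (one' (hf := hf) n a) k = fun i => (0 : Γ(F, D 𝒜 f i)) from
        funext fun i => (co_one' n a k i).trans (if_neg hk)]
      exact compat_zero k⟩,
    fun k hk i => (co_one' n a k i).trans (if_neg (Ne.symm hk))⟩

theorem co_mk {n : ℕ} (a : ∀ i, Γ(F, D 𝒜 f i)) (ha : Compat hf n a) (i : ι) :
    co ((mk a ha : gamma 𝒜 hf F) : GStar 𝒜 hf F) n i = a i :=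
  co_one'_same n a i

instance : SetLike.GradedSMul 𝒜 (grade 𝒜 hf F) where
  smul_mem := fun {k n a m} ha hm l hl i => by
    show co (a • (m : GStar 𝒜 hf F)) l i = 0
    rw [co_smul ha]
    split_ifs with hkl
    · rw [hm (l - k) (fun h => hl (by simp only [vadd_eq_add]; omega)) i, smul_zero]
    · rfl

variable [Finite ι]

variable (𝒜 hf F) in
set_option synthInstance.maxHeartbeats 200000 in
instance decompositionGamma : DirectSum.Decomposition (grade 𝒜 hf F) := by
  classical
  letI := Fintype.ofFinite ι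
  let supp : gamma 𝒜 hf F → Finset ℕ := fun m => Finset.univ.biUnion fun i : ι => ((m : GStar 𝒜 hf F) i).coeff.support
  have hsupp : ∀ (m : gamma 𝒜 hf F) n, n ∉ supp m → ∀ i, co (m : GStar 𝒜 hf F) n i = 0 := fun m n hn i =>
    Finsupp.notMem_support_iff.1 fun h => hn (Finset.mem_biUnion.2 ⟨i, Finset.mem_univ _, h⟩)
  refine IsInternal.chooseDecomposition _ ⟨fun x y hxy => ?_, fun m => ?_⟩
  · refine DFinsupp.ext fun n => Subtype.ext (Subtype.ext (gstar_ext fun k i => ?_))
    by_cases hk : k = n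
    · subst hk
      have key : ∀ z : ⨁ n, grade 𝒜 hf F n, co ((DirectSum.coeAddMonoidHom (grade 𝒜 hf F) z : gamma 𝒜 hf F) :
          GStar 𝒜 hf F) k i = co ((z k : gamma 𝒜 hf F) : GStar 𝒜 hf F) k i := by
        intro z
        induction z using DirectSum.induction_on with
        | zero => simp only [map_zero, DirectSum.zero_apply, ZeroMemClass.coe_zero]
        | of l w =>
          rw [DirectSum.coeAddMonoidHom_of]
          by_cases hl : l = k
          · subst hl
            rw [DirectSum.of_eq_same]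
          · rw [DirectSum.of_eq_of_ne _ _ _ (Ne.symm hl), ZeroMemClass.coe_zero, ZeroMemClass.coe_zero, co_zero]
            exact w.2 k (Ne.symm hl) i
        | add a b ha hb =>
          rw [map_add, DirectSum.add_apply, Submodule.coe_add, Submodule.coe_add, Submodule.coe_add, co_add, co_add,
            ha, hb]
      rw [← key x, ← key y, hxy]
    · rw [(x n).2 k hk i, (y n).2 k hk i]
  · refine ⟨∑ n ∈ supp m, DirectSum.of _ n (mk (co (m : GStar 𝒜 hf F) n) (m.2 n)), ?_⟩
    refine Subtype.ext (gstar_ext fun k i => ?_)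
    rw [map_sum, AddSubmonoidClass.coe_finsetSum, co_sum]
    simp_rw [DirectSum.coeAddMonoidHom_of]
    rw [Finset.sum_eq_single k]
    · exact co_mk _ _ i
    · exact fun n _ hn => (mk (co (m : GStar 𝒜 hf F) n) (m.2 n)).2 k (Ne.symm hn) i
    · exact fun hk => ((mk (co (m : GStar 𝒜 hf F) k) (m.2 k)).1.2 k |> fun _ => co_mk _ _ i).trans (hsupp m k hk i)

end Groth.Agent.ProjGamma
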