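import Groth.Agent.ProjGamma.Module
import Groth.Agent.QCoh.Stalk
import Groth.Agent.InvX.Tensor
import Groth.Agent.ZClosLib.Basic
import Groth.Prelude.Def_RefHull

/-!
# The map from the sheaf of a graded module of compatible families
-/

noncomputable section

universe u

set_option backward.isDefEq.respectTransparency false
set_option backward.isDefEq.respectTransparency.types false
set_option linter.style.haveILetI false
set_option synthInstance.maxHeartbeats 100000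

open CategoryTheory AlgebraicGeometry TopologicalSpace DirectSum Opposite

namespace Groth.Agent.ProjGamma

variable {R A : Type u} [CommRing R] [CommRing A] [Algebra R A] {𝒜 : ℕ → Submodule R A} [GradedAlgebra 𝒜]
variable {ι : Type u} {f : ι → A} {hf : ∀ i, f i ∈ 𝒜 1} {F : (Proj 𝒜).Modules}
variable {N : Type u} [AddCommGroup N] [Module R N] [Module A N] {𝒩 : ℕ → Submodule R N}

/-- The section of `F` over `D₊(f i)` given by an element. -/
def ev (j : N →ₗ[A] gamma 𝒜 hf F) (n : ℕ) (m : N) (i : ι) : Γ(F, D 𝒜 f i) := co (j m : GStar 𝒜 hf F) n i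

theorem ev_zero (j : N →ₗ[A] gamma 𝒜 hf F) (n : ℕ) (i : ι) : ev j n 0 i = 0 := by
  rw [ev, map_zero]
  rfl

theorem ev_add (j : N →ₗ[A] gamma 𝒜 hf F) (n : ℕ) (m m' : N) (i : ι) :
    ev j n (m + m') i = ev j n m i + ev j n m' i := by
  rw [ev, map_add]
  rfl

theorem ev_smul (j : N →ₗ[A] gamma 𝒜 hf F) {k n l : ℕ} {a : A} (ha : a ∈ 𝒜 k) (m : N) (i : ι) (hl : l = k + n) :
    ev j l (a • m) i = frac (hf i) k ha • ev j n m i := by
  subst hl
  rw [ev, map_smul]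
  show co (a • (j m : GStar 𝒜 hf F)) (k + n) i = _
  rw [co_smul ha, if_pos (Nat.le_add_right k n), Nat.add_sub_cancel_left]
  rfl

theorem frac_pow_self (i : ι) (n : ℕ) :
    frac (hf i) n (a := f i ^ n) (by simpa using SetLike.pow_mem_graded n (hf i)) = 1 :=
  sect_ext fun y => by
    rw [oval_frac]
    refine Eq.trans ?_ (show (GrModX.oval 𝒜 1 y).val = 1 from HomogeneousLocalization.val_one).symm
    exact Localization.mk_self (⟨f i ^ n, GrModX.pow_notMem y.1.isPrime y.2 n⟩ : y.1.asHomogeneousIdeal.toIdeal.primeCompl)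

/-- A vanishing section comes from an element killed by a power. -/
theorem exists_pow_smul_eq_zero [Finite ι] (hF : Coh.IsQCoh F) (j : N →ₗ[A] gamma 𝒜 hf F)
    (hj : ∀ n, ∀ m ∈ 𝒩 n, j m ∈ grade 𝒜 hf F n) (hinj : Function.Injective j) {n : ℕ} {m : N} (hm : m ∈ 𝒩 n)
    {i : ι} (h : ev j n m i = 0) : ∃ K : ℕ, f i ^ K • m = 0 := by
  classical
  letI := Fintype.ofFinite ι
  have key : ∀ l, ∃ K, frac (hf l) 1 (hf i) ^ K • ev j n m l = 0 := fun l => by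
    have hb : (Proj 𝒜).basicOpen (frac (hf l) 1 (hf i)) ≤ D 𝒜 f i ⊓ D 𝒜 f l := by
      rw [basicOpen_frac]
      intro y hy
      exact ⟨fun h => hy (y.asHomogeneousIdeal.toIdeal.mul_mem_left _ h),
        fun h => hy (y.asHomogeneousIdeal.toIdeal.mul_mem_right _ h)⟩
    refine QCoh.exists_pow_smul_eq_zero hF (Proj.isAffineOpen_basicOpen 𝒜 (f l) (hf l) Nat.one_pos) _ _ ?_
    have h1 := congrArg (AModX.res F hb) (((j m).2 n) i l)
    rw [AModX.res_smul, AModX.res_res, AModX.res_res, show co (j m : GStar 𝒜 hf F) n i = 0 from h, map_zero,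
      smul_zero] at h1
    exact h1
  choose K hK using key
  let K₀ := Finset.univ.sup K
  refine ⟨K₀, hinj ?_⟩
  rw [map_smul, map_zero]
  refine Subtype.ext (gstar_ext fun l i' => ?_)
  have hp : f i ^ K₀ ∈ 𝒜 K₀ := by simpa using SetLike.pow_mem_graded K₀ (hf i)
  show co (f i ^ K₀ • (j m : GStar 𝒜 hf F)) l i' = 0
  rw [co_smul hp]
  split_ifs with hl
  · by_cases hn : l - K₀ = n
    · rw [hn]
      obtain ⟨r, hr⟩ := Nat.exists_eq_add_of_le' (Finset.le_sup (f := K) (Finset.mem_univ i'))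
      have hpow : frac (hf i') K₀ hp = frac (hf i') 1 (hf i) ^ K₀ := sect_ext fun y => by
        rw [GrModX.oval_pow, HomogeneousLocalization.val_pow, oval_frac, oval_frac, Localization.mk_pow]
        congr 1
        exact Subtype.ext (by simp)
      rw [hpow, show K₀ = r + K i' from hr, pow_add, mul_smul]
      exact (congrArg _ (hK i')).trans (smul_zero _)
    · rw [hj n m hm (l - K₀) hn i', smul_zero]
  · rfl

/-- The value of a fraction. -/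
def RelAt (𝒩 : ℕ → Submodule R N) (j : N →ₗ[A] gamma 𝒜 hf F) (y : Proj 𝒜) (q : GrMod.LocMod 𝒜 (M := N) y)
    (v : F.presheaf.stalk y) : Prop :=
  ∀ (n : ℕ) (m : N) (_ : m ∈ 𝒩 n) (s : A) (hs : s ∈ 𝒜 n) (hsy : s ∉ y.asHomogeneousIdeal) (i : ι)
    (hi : y ∈ D 𝒜 f i), q = LocalizedModule.mk m ⟨s, hsy⟩ →
      (Proj 𝒜).presheaf.germ _ y hi (frac (hf i) n hs) • v = F.presheaf.germ _ y hi (ev j n m i)

variable [SetLike.GradedSMul 𝒜 𝒩] [DirectSum.Decomposition 𝒩] (j : N →ₗ[A] gamma 𝒜 hf F)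

theorem relAt_of_eq {y : Proj 𝒜} {q : GrMod.LocMod 𝒜 (M := N) y} {v : F.presheaf.stalk y} {n₀ : ℕ} {m₀ : N}
    (hm₀ : m₀ ∈ 𝒩 n₀) {s₀ : A} (hs₀ : s₀ ∈ 𝒜 n₀) (hsy₀ : s₀ ∉ y.asHomogeneousIdeal)
    (hq : q = LocalizedModule.mk m₀ ⟨s₀, hsy₀⟩) {i₀ : ι} (hi₀ : y ∈ D 𝒜 f i₀)
    (h : (Proj 𝒜).presheaf.germ _ y hi₀ (frac (hf i₀) n₀ hs₀) • v = F.presheaf.germ _ y hi₀ (ev j n₀ m₀ i₀)) :
    RelAt 𝒩 j y q v := by
  classical
  intro n m hm s hs hsy i hi hq'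
  -- change of the index
  let g := (Proj 𝒜).presheaf.germ _ y hi (frac (hf i) 1 (hf i₀))
  have hW : y ∈ D 𝒜 f i₀ ⊓ D 𝒜 f i := ⟨hi₀, hi⟩
  have hS : (Proj 𝒜).presheaf.germ _ y hi (frac (hf i) n₀ hs₀) =
      g ^ n₀ * (Proj 𝒜).presheaf.germ _ y hi₀ (frac (hf i₀) n₀ hs₀) := by
    have h1 := congrArg ((Proj 𝒜).presheaf.germ _ y hW) (res_frac (hf i₀) (hf i) hs₀
      (inf_le_left : D 𝒜 f i₀ ⊓ D 𝒜 f i ≤ _) inf_le_right)
    rwa [map_mul, map_pow, InvX.germ_resR', InvX.germ_resR', InvX.germ_resR'] at h1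
  have hE : F.presheaf.germ _ y hi (ev j n₀ m₀ i) = g ^ n₀ • F.presheaf.germ _ y hi₀ (ev j n₀ m₀ i₀) := by
    have h1 := congrArg (F.presheaf.germ _ y hW) (((j m₀).2 n₀) i₀ i)
    rwa [QCoh.germ_smul', InvX.germ_res', InvX.germ_res', map_pow, InvX.germ_resR'] at h1
  have h₀ : (Proj 𝒜).presheaf.germ _ y hi (frac (hf i) n₀ hs₀) • v = F.presheaf.germ _ y hi (ev j n₀ m₀ i) := by
    rw [hS, hE, mul_smul, h]
  -- change of the fraction
  have hmk := hq'.symm.trans hq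
  rw [LocalizedModule.mk_eq] at hmk
  obtain ⟨⟨u, hu⟩, huq⟩ := hmk
  simp only [Submonoid.smul_def] at huq
  obtain ⟨d, hd⟩ : ∃ d, (decompose 𝒜 u d : A) ∉ y.asHomogeneousIdeal := by
    by_contra! hall
    exact hu (by rw [← sum_support_decompose 𝒜 u]; exact Ideal.sum_mem _ fun i _ => hall i)
  have hz : s₀ • m - s • m₀ ∈ 𝒩 (n₀ + n) := sub_mem (SetLike.GradedSMul.smul_mem hs₀ hm)
    (add_comm n n₀ ▸ SetLike.GradedSMul.smul_mem hs hm₀)
  have hud : (decompose 𝒜 u d : A) • (s₀ • m - s • m₀) = 0 := by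
    have := GrModX.proj_smul_eq_zero 𝒜 hz (c := u) (by rw [smul_sub, huq, sub_self]) d
    rwa [GradedRing.proj_apply] at this
  have hudm : (decompose 𝒜 u d : A) ∈ 𝒜 d := SetLike.coe_mem _
  rw [smul_sub, sub_eq_zero] at hud
  have h1 := congrArg (F.presheaf.germ _ y hi) (congrArg (fun z => ev j (d + (n₀ + n)) z i) hud)
  dsimp only at h1
  rw [ev_smul j hudm _ i rfl, ev_smul j hudm _ i rfl, ev_smul j hs₀ m i rfl, ev_smul j hs m₀ i (add_comm n₀ n),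
    QCoh.germ_smul', QCoh.germ_smul', QCoh.germ_smul', QCoh.germ_smul'] at h1
  have h2 := (isUnit_germ_frac (hf i) hi hudm hd).smul_left_cancel.1 h1
  refine (isUnit_germ_frac (hf i) hi hs₀ hsy₀).smul_left_cancel.1 ?_
  rw [smul_comm, h₀, h2]

theorem exists_rep {U : (Proj 𝒜).Opens} (σ : Γ(GrMod.tilde 𝒜 𝒩 0, U)) (y : U) :
    ∃ (V : (Proj 𝒜).Opens) (hV : V ≤ U) (_ : y.1 ∈ V) (n : ℕ) (m : N) (_ : m ∈ 𝒩 n) (s : A) (_ : s ∈ 𝒜 n)
      (nin : ∀ z : V, s ∉ z.1.asHomogeneousIdeal),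
      ∀ z : V, GrMod.val σ ⟨z.1, hV z.2⟩ = LocalizedModule.mk m ⟨s, nin z⟩ := by
  obtain ⟨V, hyV, iV, i', k, ⟨m, hm⟩, ⟨s, hs⟩, nin, hdeg, hval⟩ :=
    (σ : GrMod.sect 𝒜 𝒩 0 (op U)).2 y
  rcases hdeg with hi | h0
  · have hk : i' = k := by omega
    subst hk
    exact ⟨V, iV.le, hyV, i', m, hm, s, hs, nin, hval⟩
  · refine ⟨V, iV.le, hyV, k, 0, zero_mem _, s, hs, nin, fun z => ?_⟩
    have h0' : m = 0 := h0
    subst h0'
    exact hval z

variable (hcov : ∀ y : Proj 𝒜, ∃ i, y ∈ D 𝒜 f i)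

include hcov in
theorem RelAt.unique {U : (Proj 𝒜).Opens} (σ : Γ(GrMod.tilde 𝒜 𝒩 0, U)) (y : U) {v v' : F.presheaf.stalk y.1}
    (h : RelAt 𝒩 j y.1 (GrMod.val σ y) v) (h' : RelAt 𝒩 j y.1 (GrMod.val σ y) v') : v = v' := by
  obtain ⟨V, hV, hyV, n, m, hm, s, hs, nin, hval⟩ := exists_rep σ y
  obtain ⟨i, hi⟩ := hcov y.1
  exact (isUnit_germ_frac (hf i) hi hs (nin ⟨y.1, hyV⟩)).smul_left_cancel.1
    ((h n m hm s hs _ i hi (hval ⟨y.1, hyV⟩)).trans (h' n m hm s hs _ i hi (hval ⟨y.1, hyV⟩)).symm)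

/-- A section corresponds to a fraction at every point. -/
def Rel {U : (Proj 𝒜).Opens} (σ : Γ(GrMod.tilde 𝒜 𝒩 0, U)) (t : Γ(F, U)) : Prop :=
  ∀ y : U, RelAt 𝒩 j y.1 (GrMod.val σ y) (F.presheaf.germ U y.1 y.2 t)

include hcov in
theorem rel_unique {U : (Proj 𝒜).Opens} {σ : Γ(GrMod.tilde 𝒜 𝒩 0, U)} {t t' : Γ(F, U)} (h : Rel j σ t)
    (h' : Rel j σ t') : t = t' :=
  ZClosLib.section_ext F _ _ fun y hy => RelAt.unique j hcov σ ⟨y, hy⟩ (h ⟨y, hy⟩) (h' ⟨y, hy⟩)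

theorem rel_res {U V : (Proj 𝒜).Opens} (h : V ≤ U) {σ : Γ(GrMod.tilde 𝒜 𝒩 0, U)} {t : Γ(F, U)} (ht : Rel j σ t) :
    Rel j (AModX.res (GrMod.tilde 𝒜 𝒩 0) h σ) (AModX.res F h t) := fun y => by
  rw [InvX.germ_res']
  exact ht ⟨y.1, h y.2⟩

include hcov in
theorem exists_rel {U : (Proj 𝒜).Opens} (σ : Γ(GrMod.tilde 𝒜 𝒩 0, U)) : ∃ t : Γ(F, U), Rel j σ t := by
  have hloc : ∀ y : U, ∃ (W : (Proj 𝒜).Opens) (hW : W ≤ U) (_ : y.1 ∈ W) (t : Γ(F, W)),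
      Rel j (AModX.res (GrMod.tilde 𝒜 𝒩 0) hW σ) t := fun y => by
    obtain ⟨V, hV, hyV, n, m, hm, s, hs, nin, hval⟩ := exists_rep σ y
    obtain ⟨i, hi⟩ := hcov y.1
    let W := V ⊓ D 𝒜 f i
    let S : Γ(Proj 𝒜, W) := AModX.resR (inf_le_right : W ≤ D 𝒜 f i) (frac (hf i) n hs)
    have hS : IsUnit S := by
      refine RingedSpace.isUnit_of_isUnit_germ (Proj 𝒜).toRingedSpace W S fun z hz => ?_
      show IsUnit ((Proj 𝒜).presheaf.germ W z hz S)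
      rw [InvX.germ_resR']
      exact isUnit_germ_frac (hf i) hz.2 hs (nin ⟨z, hz.1⟩)
    refine ⟨W, inf_le_left.trans hV, ⟨hyV, hi⟩,
      (↑hS.unit⁻¹ : Γ(Proj 𝒜, W)) • AModX.res F inf_le_right (ev j n m i), fun z => ?_⟩
    refine relAt_of_eq j hm hs (nin ⟨z.1, z.2.1⟩) (hval ⟨z.1, z.2.1⟩) z.2.2 ?_
    rw [← InvX.germ_resR' (inf_le_right : W ≤ D 𝒜 f i) z.2, ← QCoh.germ_smul', ← mul_smul, IsUnit.mul_val_inv,
      one_smul, InvX.germ_res']
  choose W hW hyW t ht using hloc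
  obtain ⟨T, hT, -⟩ := AModX.existsUnique_glue (M := F) (V := U) W hW (fun p hp => ⟨⟨p, hp⟩, hyW ⟨p, hp⟩⟩) t
    fun a b => rel_unique j hcov
      (by have := rel_res j (inf_le_left : W a ⊓ W b ≤ W a) (ht a); rwa [AModX.res_res] at this)
      (by have := rel_res j (inf_le_right : W a ⊓ W b ≤ W b) (ht b); rwa [AModX.res_res] at this)
  refine ⟨T, fun y => ?_⟩
  have h1 := ht y ⟨y.1, hyW y⟩
  rwa [← hT y, InvX.germ_res'] at h1

include hcov in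
theorem rel_add {U : (Proj 𝒜).Opens} {σ σ' : Γ(GrMod.tilde 𝒜 𝒩 0, U)} {t t' : Γ(F, U)} (h : Rel j σ t)
    (h' : Rel j σ' t') : Rel j (σ + σ') (t + t') := fun y => by
  obtain ⟨V, hV, hyV, n, m, hm, s, hs, nin, hval⟩ := exists_rep σ y
  obtain ⟨V', hV', hyV', n', m', hm', s', hs', nin', hval'⟩ := exists_rep σ' y
  obtain ⟨i, hi⟩ := hcov y.1
  refine relAt_of_eq j (n₀ := n + n') (m₀ := s' • m + s • m')
    (add_mem (add_comm n' n ▸ SetLike.GradedSMul.smul_mem hs' hm) (SetLike.GradedSMul.smul_mem hs hm'))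
    (SetLike.mul_mem_graded hs hs')
    (fun h => (y.1.isPrime.mem_or_mem h).elim (nin ⟨y.1, hyV⟩) (nin' ⟨y.1, hyV'⟩)) ?_ hi ?_
  · show GrMod.val σ y + GrMod.val σ' y = _
    rw [show GrMod.val σ y = _ from hval ⟨y.1, hyV⟩, show GrMod.val σ' y = _ from hval' ⟨y.1, hyV'⟩,
      LocalizedModule.mk_add_mk]
    rfl
  · rw [← frac_mul (hf i) hs hs', map_mul, map_add, smul_add, ev_add, map_add,
      ev_smul j hs' m i (add_comm n n'), ev_smul j hs m' i rfl, QCoh.germ_smul', QCoh.germ_smul',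
      ← h y n m hm s hs (nin ⟨y.1, hyV⟩) i hi (hval ⟨y.1, hyV⟩),
      ← h' y n' m' hm' s' hs' (nin' ⟨y.1, hyV'⟩) i hi (hval' ⟨y.1, hyV'⟩), mul_smul, mul_smul]
    rw [smul_comm ((Proj 𝒜).presheaf.germ _ y.1 hi (frac (hf i) n hs))]

include hcov in
theorem rel_smul {U : (Proj 𝒜).Opens} (c : Γ(Proj 𝒜, U)) {σ : Γ(GrMod.tilde 𝒜 𝒩 0, U)} {t : Γ(F, U)}
    (h : Rel j σ t) : Rel j (c • σ) (c • t) := fun y => by
  obtain ⟨V, hV, hyV, n, m, hm, s, hs, nin, hval⟩ := exists_rep σ y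
  obtain ⟨i, hi⟩ := hcov y.1
  obtain ⟨Vc, hyVc, iVc, k, ⟨r, hr⟩, ⟨a, ha⟩, nina, hc⟩ := (c : GrTwist.O (𝒜 := 𝒜) (op U)).2 y
  have hcv : (GrModX.oval 𝒜 c y).val = Localization.mk r ⟨a, nina ⟨y.1, hyVc⟩⟩ := by
    rw [show GrModX.oval 𝒜 c y = _ from hc ⟨y.1, hyVc⟩, HomogeneousLocalization.val_mk]
  refine relAt_of_eq j (n₀ := k + n) (m₀ := r • m) (SetLike.GradedSMul.smul_mem hr hm)
    (SetLike.mul_mem_graded ha hs)
    (fun h => (y.1.isPrime.mem_or_mem h).elim (nina ⟨y.1, hyVc⟩) (nin ⟨y.1, hyV⟩)) ?_ hi ?_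
  · rw [GrModX.val_smul, hcv, show GrMod.val σ y = _ from hval ⟨y.1, hyV⟩, LocalizedModule.mk_smul_mk]
    rfl
  · rw [← frac_mul (hf i) ha hs, map_mul, QCoh.germ_smul', ev_smul j hr m i rfl, QCoh.germ_smul',
      ← h y n m hm s hs (nin ⟨y.1, hyV⟩) i hi (hval ⟨y.1, hyV⟩),
      ← germ_mul_frac (hf i) c y.2 hi hr ha (nina ⟨y.1, hyVc⟩) hcv, mul_smul, mul_smul]
    rw [smul_comm ((Proj 𝒜).presheaf.germ _ y.1 hi (frac (hf i) n hs))]

/-- The map from the sheaf of the graded module. -/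
def toF : GrMod.tilde 𝒜 𝒩 0 ⟶ F where
  val := PresheafOfModules.homMk
    { app := fun V => AddCommGrpCat.ofHom (AddMonoidHom.mk'
        (fun σ => (exists_rel j hcov σ).choose) fun σ σ' => rel_unique j hcov
          (exists_rel j hcov _).choose_spec
          (rel_add j hcov (exists_rel j hcov σ).choose_spec (exists_rel j hcov σ').choose_spec))
      naturality := fun V W i => by
        ext σ
        exact rel_unique j hcov (exists_rel j hcov (AModX.res (GrMod.tilde 𝒜 𝒩 0) i.unop.le σ)).choose_spec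
          (rel_res j i.unop.le (exists_rel j hcov σ).choose_spec) }
    fun V r σ => rel_unique j hcov (exists_rel j hcov _).choose_spec
      (rel_smul j hcov r (exists_rel j hcov σ).choose_spec)

theorem rel_toF {U : (Proj 𝒜).Opens} (σ : Γ(GrMod.tilde 𝒜 𝒩 0, U)) :
    Rel j σ ((toF j hcov).app U σ) :=
  (exists_rel j hcov σ).choose_spec

theorem isIso_toF [Finite ι] (hF : Coh.IsQCoh F) (hj : ∀ n, ∀ m ∈ 𝒩 n, j m ∈ grade 𝒜 hf F n)
    (hinj : Function.Injective j)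
    (hgen : ∀ i, Submodule.span Γ(Proj 𝒜, D 𝒜 f i)
      {b : Γ(F, D 𝒜 f i) | ∃ n, ∃ m ∈ 𝒩 n, b = ev j n m i} = ⊤) :
    IsIso (toF (𝒩 := 𝒩) j hcov) := by
  classical
  refine ZClosLib.isIso_of_stalkMap_bijective _ fun y => ⟨?_, fun v => ?_⟩
  · refine (injective_iff_map_eq_zero _).2 fun w hw => ?_
    obtain ⟨U, hyU, σ, rfl⟩ := TopCat.Presheaf.exists_germ_eq (GrMod.tilde 𝒜 𝒩 0).presheaf w
    obtain ⟨V, hV, hyV, n, m, hm, s, hs, nin, hval⟩ := exists_rep σ ⟨y, hyU⟩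
    obtain ⟨i, hi⟩ := hcov y
    have h1 := rel_toF j hcov σ ⟨y, hyU⟩ n m hm s hs (nin ⟨y, hyV⟩) i hi (hval ⟨y, hyV⟩)
    change RefHull.stalkMapₗ (toF j hcov) y _ = 0 at hw
    rw [RefHull.stalkMapₗ_germ] at hw
    rw [hw, smul_zero] at h1
    obtain ⟨c, hyc, hc⟩ := (QCoh.germ_eq_zero_iff hF (Proj.isAffineOpen_basicOpen 𝒜 (f i) (hf i) Nat.one_pos) hi _).1
      h1.symm
    obtain ⟨k, b, hb, rfl⟩ := exists_frac (hf i) c
    rw [← ev_smul j hb m i rfl] at hc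
    obtain ⟨K, hK⟩ := exists_pow_smul_eq_zero hF j hj hinj (SetLike.GradedSMul.smul_mem hb hm) hc
    rw [basicOpen_frac] at hyc
    let W := V ⊓ Proj.basicOpen 𝒜 (f i * b)
    have hW0 : AModX.res (GrMod.tilde 𝒜 𝒩 0) (inf_le_left.trans hV : W ≤ U) σ = 0 :=
      GrModX.ext_val 𝒜 𝒩 fun z => by
        show GrMod.val σ ⟨z.1, hV z.2.1⟩ = _
        rw [hval ⟨z.1, z.2.1⟩]
        refine ((GrModX.mk_eq_zero_iff 𝒜 z.1 _ _).mpr ⟨f i ^ K * b, fun h => ?_, by rw [mul_smul, hK]⟩).trans rfl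
        rcases z.1.isPrime.mem_or_mem h with h' | h'
        · exact z.2.2 (z.1.asHomogeneousIdeal.toIdeal.mul_mem_right _ (z.1.isPrime.mem_of_pow_mem _ h'))
        · exact z.2.2 (z.1.asHomogeneousIdeal.toIdeal.mul_mem_left _ h')
    rw [← InvX.germ_res' (inf_le_left.trans hV : W ≤ U) (show y ∈ W from ⟨hyV, hyc⟩), hW0, map_zero]
  · suffices v ∈ LinearMap.range (RefHull.stalkMapₗ (toF j hcov) y) from this
    obtain ⟨i, hi⟩ := hcov y
    let hU := Proj.isAffineOpen_basicOpen 𝒜 (f i) (hf i) Nat.one_pos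
    letI := QCoh.stalkModule F hi
    haveI := QCoh.isLocalizedModule_germLin hF hU hi
    obtain ⟨⟨b, c⟩, hbc⟩ := IsLocalizedModule.surj (hU.primeIdealOf ⟨y, hi⟩).asIdeal.primeCompl
      (QCoh.germLin F hi) v
    have hcu : IsUnit ((Proj 𝒜).presheaf.germ _ y hi (c : Γ(Proj 𝒜, D 𝒜 f i))) :=
      ((Proj 𝒜).mem_basicOpen _ y hi).1 ((QCoh.mem_basicOpen_iff_notMem hU hi _).2 c.2)
    suffices F.presheaf.germ _ y hi b ∈ LinearMap.range (RefHull.stalkMapₗ (toF j hcov) y) by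
      have h1 : (Proj 𝒜).presheaf.germ _ y hi (c : Γ(Proj 𝒜, D 𝒜 f i)) • v = F.presheaf.germ _ y hi b := hbc
      rw [← h1, Submodule.smul_mem_iff_of_isUnit _ hcu] at this
      exact this
    have hb : b ∈ Submodule.span Γ(Proj 𝒜, D 𝒜 f i)
        {b : Γ(F, D 𝒜 f i) | ∃ n, ∃ m ∈ 𝒩 n, b = ev j n m i} := hgen i ▸ Submodule.mem_top
    clear hbc
    induction hb using Submodule.span_induction with
    | mem x hx =>
      obtain ⟨n, m, hm, rfl⟩ := hx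
      have hp : f i ^ n ∈ 𝒜 n := by simpa using SetLike.pow_mem_graded n (hf i)
      let σ := GrModX.fracSect 𝒜 𝒩 0 (D 𝒜 f i) (j := n) hp (fun z => GrModX.pow_notMem z.1.isPrime z.2 n)
        (m := m) (Or.inr ⟨n, by simp, hm⟩)
      refine ⟨(GrMod.tilde 𝒜 𝒩 0).presheaf.germ _ y hi σ, ?_⟩
      rw [RefHull.stalkMapₗ_germ]
      have h1 := rel_toF j hcov σ ⟨y, hi⟩ n m hm (f i ^ n) hp (GrModX.pow_notMem y.isPrime hi n) i hi rfl
      rwa [frac_pow_self, map_one, one_smul] at h1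
    | zero => rw [map_zero]; exact zero_mem _
    | add a b _ _ ha hb => rw [map_add]; exact add_mem ha hb
    | smul r a _ ha => rw [QCoh.germ_smul']; exact Submodule.smul_mem _ _ ha

end Groth.Agent.ProjGamma
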